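import Groth.Agent.Krr.H483.GammaPB
import Mathlib.Data.Nat.Choose.Sum

/-!
# Push-forward along a projective bundle and the γ-filtration (algebraic form)

`push_mem`: if `Q` is a projective bundle over `K` in the sense of `GammaPB.Hyp`, `(l - 1)^(n+1) = 0`, and `p : Q →+ K`
satisfies `p (g y * l^i) = m_i • y` for integers `m_i` then `p (F^k Q) ⊆ F^(k-n) K`.
-/

set_option autoImplicit false

universe v w

open LambdaRing Finset

namespace Groth.Agent.Krr.H446.PushFilt

open Groth.Agent.Books.Lambda1 Groth.Agent.Books.Lambda2 Groth.Agent.Krr.H483.GammaPB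

variable {K : Type v} [CommRing K] [LambdaOps K] {P : PosStructure K}
  {Q : Type w} [CommRing Q] [LambdaOps Q] {PQ : PosStructure Q}
  {g : K →+* Q} {l : Q}

/-- `p (g y * (l-1)^i)` is an integral multiple of `y`. -/
theorem exists_push_mul_pow (p : Q →+ K) (hp : ∀ i : ℕ, ∃ m : ℤ, ∀ y : K, p (g y * l ^ i) = m • y)
    (i : ℕ) : ∃ m : ℤ, ∀ y : K, p (g y * (l - 1) ^ i) = m • y := by
  choose m hm using hp
  refine ⟨∑ j ∈ range (i + 1), m j * ((-1) ^ (i - j) * (i.choose j : ℤ)), fun y => ?_⟩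
  have h1 : g y * (l - 1) ^ i = ∑ j ∈ range (i + 1),
      ((-1) ^ (i - j) * (i.choose j : ℤ)) • (g y * l ^ j) := by
    rw [sub_eq_add_neg, add_pow, Finset.mul_sum]
    refine Finset.sum_congr rfl fun j _ => ?_
    rw [zsmul_eq_mul]
    push_cast
    ring
  rw [h1, map_sum, Finset.sum_smul]
  refine Finset.sum_congr rfl fun j _ => ?_
  rw [map_zsmul, hm, smul_smul, mul_comm]

/-- An additive map `p : Q → K` with `p (g y * l^i) ∈ ℤ y` sends `A^k` into `F^(k-n)`
if `(l-1)^(n+1) = 0`. -/
theorem push_mem_of_A {n : ℕ} (hl : (l - 1) ^ (n + 1) = 0) (p : Q →+ K)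
    (hp : ∀ i : ℕ, ∃ m : ℤ, ∀ y : K, p (g y * l ^ i) = m • y)
    (k : ℕ) {x : Q} (hx : x ∈ A P g l k) : p x ∈ gammaFiltration P (k - n) := by
  obtain ⟨q, hq, rfl⟩ := hx
  rw [Polynomial.eval₂_eq_sum_range, map_sum]
  refine sum_mem fun i _ => ?_
  rcases Nat.lt_or_ge n i with hi | hi
  · have h0 : (l - 1) ^ i = 0 := by
      obtain ⟨c, rfl⟩ := Nat.exists_eq_add_of_lt hi
      rw [show n + c + 1 = (n + 1) + c by ring, pow_add, hl, zero_mul]
    rw [h0, mul_zero, map_zero]
    exact zero_mem _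
  · obtain ⟨m, hm⟩ := exists_push_mul_pow p hp i
    rw [hm]
    exact zsmul_mem (filtration_anti P (by omega) (hq i)) m

/-- Integral behaviour of `p_K` with respect to the γ-filtrations. -/
theorem push_mem {n : ℕ} {e : K} (H : Hyp P PQ g l n e) (hl : (l - 1) ^ (n + 1) = 0) (p : Q →+ K)
    (hp : ∀ i : ℕ, ∃ m : ℤ, ∀ y : K, p (g y * l ^ i) = m • y)
    (k : ℕ) {x : Q} (hx : x ∈ gammaFiltration PQ k) : p x ∈ gammaFiltration P (k - n) :=
  push_mem_of_A hl p hp k (H.filtration_le k hx)

/-- `Σ_i (-1)^i λ^i(n+1) l^(n+1-i) = (l-1)^(n+1)`. -/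
theorem sum_lam_natCast (P : PosStructure K) (g : K →+* Q) (l : Q) (n : ℕ) :
    ∑ i ∈ range (n + 2), (-1 : Q) ^ i * g (LambdaOps.lam i ((n + 1 : ℕ) : K)) * l ^ (n + 1 - i) =
      (l - 1) ^ (n + 1) := by
  have h1 : ∀ m i : ℕ, LambdaOps.lam i ((m : ℕ) : K) = (m.choose i : K) := by
    intro m
    induction m with
    | zero =>
      intro i
      have h := congrArg (PowerSeries.coeff i) (lamSeries_zero (K := K))
      rw [coeff_lamSeries, PowerSeries.coeff_one] at h
      rw [Nat.cast_zero, h]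
      rcases Nat.eq_zero_or_pos i with rfl | hi
      · simp
      · rw [if_neg (by omega), Nat.choose_eq_zero_of_lt hi, Nat.cast_zero]
    | succ m ih =>
      intro i
      have hone : ∀ j, LambdaOps.lam j (1 : K) = if j = 0 then 1 else if j = 1 then 1 else 0 := by
        intro j
        rcases Nat.lt_or_ge 1 j with hj | hj
        · rw [if_neg (by omega), if_neg (by omega)]
          exact P.lam_eq_zero 1 (isLine_one P).1 j (by rw [(isLine_one P).2]; exact_mod_cast hj)
        · have : j = 0 ∨ j = 1 := by omega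
          rcases this with rfl | rfl
          · simp [LambdaOps.lam_zero]
          · simp [LambdaOps.lam_one]
      rw [Nat.cast_succ, LambdaOps.lam_add]
      rcases Nat.eq_zero_or_pos i with rfl | hi
      · simp [LambdaOps.lam_zero]
      · obtain ⟨i, rfl⟩ := Nat.exists_eq_add_of_lt hi
        rw [zero_add, Finset.sum_range_succ, Finset.sum_range_succ]
        have e1 : i + 1 - i = 1 := by omega
        have e2 : i + 1 - (i + 1) = 0 := by omega
        rw [Finset.sum_eq_zero, e1, e2, LambdaOps.lam_zero, LambdaOps.lam_one, mul_one, mul_one,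
          zero_add, ih, ih, ← Nat.cast_add, Nat.choose_succ_succ]
        intro j hj
        have hj' := Finset.mem_range.1 hj
        rw [hone, if_neg (by omega), if_neg (by omega), mul_zero]
  have h2 : l - 1 = -1 + l := by ring
  rw [h2, add_pow]
  refine Finset.sum_congr rfl fun i _ => ?_
  rw [h1, map_natCast]
  ring

end Groth.Agent.Krr.H446.PushFilt
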