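import Groth.Agent.Krr.H446.PushPr

/-!
# Changing the basis `1, l, …, l^n` into the powers of `1 - l⁻¹`

`K →+* Q`, `l u = 1`, `(1-u)^(n+1) = 0`, `p : Q →+ K` with `p (g y l^i) = C(i+n, n) y`:
* `push_one_sub_pow`: `p (g y (1-u)^k) = y` for `k ≤ n`;
* `exists_sum_one_sub`: if every element is `Σ_{i ≤ n} g(a_i) l^i`, it is `Σ_{i ≤ n} g(y_i) (1-u)^i`.
-/

set_option autoImplicit false

universe v w

open Finset

namespace Groth.Agent.Krr.H446.PnAlg

/-- The solution of the difference equation. -/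
theorem diff_eq {K : Type v} [AddCommGroup K] (f : ℕ → ℕ → K) (y : K) (n : ℕ)
    (h0 : ∀ d, f d 0 = ((d + n).choose n) • y) (hrec : ∀ d k, f (d + 1) (k + 1) = f (d + 1) k - f d k)
    (hnil : ∀ d, f d (n + 1) = 0) (j : ℕ) (hj : j ≤ n) (d : ℕ) :
    f d (n - j) = ((d + j).choose j) • y := by
  have hA : ∀ k, k ≤ n → ∀ d, k ≤ d → f d k = ((d + (n - k)).choose (n - k)) • y := by
    intro k
    induction k with
    | zero => intro _ d _; exact h0 d
    | succ k ih =>
      intro hk d hd
      obtain ⟨d, rfl⟩ := Nat.exists_eq_add_of_le' (Nat.one_le_of_lt hd)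
      obtain ⟨m, hm⟩ : ∃ m, n - (k + 1) = m := ⟨_, rfl⟩
      have hm' : n - k = m + 1 := by omega
      rw [hrec, ih (by omega) (d + 1) (by omega), ih (by omega) d (by omega), hm, hm',
        show d + 1 + (m + 1) = (d + 1 + m) + 1 by ring, Nat.choose_succ_succ,
        show d + (m + 1) = d + 1 + m by ring, add_smul, add_sub_cancel_right]
  have hconst : ∀ (h : ℕ → K), (∀ d, h (d + 1) = h d) → ∀ d t, h (d + t) = h d := by
    intro h hh d t
    induction t with
    | zero => rfl
    | succ t ih => rw [← add_assoc, hh, ih]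
  have hB : ∀ j, j ≤ n → ∀ d, f d (n - j) = ((d + j).choose j) • y := by
    intro j
    induction j with
    | zero =>
      intro _ d
      have h1 : ∀ d, f (d + 1) n = f d n := by
        intro d
        have h2 := hrec d n
        rw [hnil] at h2
        exact (sub_eq_zero.1 h2.symm)
      rw [Nat.sub_zero, ← hconst (fun d => f d n) h1 d n]
      have h3 := hA n le_rfl (d + n) (by omega)
      simpa using h3
    | succ j ih =>
      intro hj d
      obtain ⟨k, hk⟩ : ∃ k, n - (j + 1) = k := ⟨_, rfl⟩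
      have hk1 : n - j = k + 1 := by omega
      have h1 : ∀ d, f (d + 1) k - ((d + 1 + (j + 1)).choose (j + 1)) • y =
          f d k - ((d + (j + 1)).choose (j + 1)) • y := by
        intro d
        have h2 := hrec d k
        have h3 := ih (by omega) (d + 1)
        rw [hk1, h2] at h3
        rw [show d + 1 + (j + 1) = (d + 1 + j) + 1 by ring, Nat.choose_succ_succ,
          show d + (j + 1) = d + 1 + j by ring, add_smul, ← h3]
        abel
      have h4 := hconst (fun d => f d k - ((d + (j + 1)).choose (j + 1)) • y) h1 d k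
      have h5 := hA k (by omega) (d + k) (by omega)
      have h6 : n - k = j + 1 := by omega
      rw [h6] at h5
      simp only [h5, sub_self] at h4
      rw [hk]
      exact (sub_eq_zero.1 h4.symm)
  exact hB j hj d

variable {K : Type v} [CommRing K] {Q : Type w} [CommRing Q] {g : K →+* Q} {l u : Q} {n : ℕ}

theorem push_one_sub_pow (hlu : l * u = 1) (hu : (1 - u) ^ (n + 1) = 0) (p : Q →+ K)
    (hp : ∀ (i : ℕ) (y : K), p (g y * l ^ i) = ((i + n).choose n) • y) (k : ℕ) (hk : k ≤ n) (y : K) :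
    p (g y * (1 - u) ^ k) = y := by
  have h := diff_eq (fun d k => p (g y * l ^ d * (1 - u) ^ k)) y n
    (fun d => by simpa using hp d y)
    (fun d k => by
      have h1 : g y * l ^ (d + 1) * (1 - u) ^ (k + 1) =
          g y * l ^ (d + 1) * (1 - u) ^ k - g y * l ^ d * (1 - u) ^ k * (l * u) := by
        ring
      change p (g y * l ^ (d + 1) * (1 - u) ^ (k + 1)) = _
      rw [h1, hlu, mul_one, map_sub])
    (fun d => by
      change p (g y * l ^ d * (1 - u) ^ (n + 1)) = 0
      rw [hu, mul_zero, map_zero]) (n - k) (by omega) 0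
  have hnk : n - (n - k) = k := by omega
  rw [hnk] at h
  simpa using h

theorem exists_sum_one_sub (hlu : l * u = 1)
    (hs : ∀ x : Q, ∃ a : Fin (n + 1) → K, ∑ i : Fin (n + 1), g (a i) * l ^ (i : ℕ) = x) (x : Q) :
    ∃ y : Fin (n + 1) → K, x = ∑ i : Fin (n + 1), g (y i) * (1 - u) ^ (i : ℕ) := by
  obtain ⟨a, ha⟩ := hs (x * l ^ n)
  let c : Polynomial K := ∑ i : Fin (n + 1), Polynomial.C (a i) * Polynomial.X ^ (n - (i : ℕ))
  have hc : c.natDegree ≤ n := by
    refine Polynomial.natDegree_sum_le_of_forall_le _ _ fun i _ => ?_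
    exact (Polynomial.natDegree_C_mul_X_pow_le _ _).trans (Nat.sub_le _ _)
  have hx : c.eval₂ g u = x := by
    have h1 : ∀ k : ℕ, l ^ k * u ^ k = 1 := fun k => by rw [← mul_pow, hlu, one_pow]
    have h2 : x = x * l ^ n * u ^ n := by rw [mul_assoc, h1, mul_one]
    rw [h2, ← ha, Polynomial.eval₂_finsetSum, Finset.sum_mul]
    refine Finset.sum_congr rfl fun i _ => ?_
    rw [Polynomial.eval₂_mul, Polynomial.eval₂_C, Polynomial.eval₂_X_pow]
    have hi : n = (i : ℕ) + (n - (i : ℕ)) := by have := i.2; omega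
    have h3 : u ^ n = u ^ (i : ℕ) * u ^ (n - (i : ℕ)) := by rw [← pow_add, ← hi]
    rw [h3]
    calc g (a i) * u ^ (n - (i : ℕ)) = g (a i) * (l ^ (i : ℕ) * u ^ (i : ℕ)) * u ^ (n - (i : ℕ)) := by
          rw [h1, mul_one]
      _ = _ := by ring
  refine ⟨fun i => (c.comp (1 - Polynomial.X)).coeff i, ?_⟩
  rw [← hx, ← PushPr.eval₂_comp_one_sub c u,
    Polynomial.eval₂_eq_sum_range' g (Nat.lt_succ_of_le (PushPr.natDegree_comp_le c hc)),
    Finset.sum_range]

end Groth.Agent.Krr.H446.PnAlg
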