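import Groth.Agent.Krr.H484.PnFree
import Groth.Agent.Krr.H487.PullExt
import Groth.Agent.Krr.H483.LamTwist
import Groth.Agent.Krr.H446.PushFilt
import Groth.Agent.Sga67.TwistOver
import Groth.Agent.Sga67.PushTwist

/-!
# The class of `O(1)` in a model of `K(P^n_Y)`

For models `KP` of `K(P^n_Y)`, `KY` of `K(Y)` and `q = p^K`:
* `tcl n Y φP d = φP [O(d)]`; `isLine_tcl`; `tcl_add`, `tcl_zero`, `tcl_natCast`;
* `cl_twF`: `φP [F(d)] = tcl d * φP [F]`;
* `sub_one_pow`: `(tcl 1 - 1)^(n+1) = 0`; `one_sub_pow`: `(1 - tcl (-1))^(n+1) = 0`.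
-/

set_option autoImplicit false

universe v w u

open CategoryTheory CategoryTheory.Limits AlgebraicGeometry LambdaRing

namespace Groth.Agent.Krr.H446.PnBasic

open KRR Groth.Agent.Krr.H482.PullLambda Groth.Agent.Krr.H483.LamTwist Groth.Agent.Sga67.TwistOver

variable (n : ℕ) (Y : Scheme.{u}) {KP : Type v} [CommRing KP] [LambdaOps KP] {PP : PosStructure KP}
  {φP : SGA6.Kvb (PY n Y) →+ KP}

/-- the class of `O(d)` -/
noncomputable def tcl (φP : SGA6.Kvb (PY n Y) →+ KP) (d : ℤ) : KP :=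
  φP (cl (PY n Y) (Twist.twistOver n Y d))

theorem isInvertible_twistOver (d : ℤ) : PicF.IsInvertible (Twist.twistOver n Y d) :=
  Groth.Agent.Ega3B.ProjFrame.isInvertible_twistOver n d

theorem isFinLocFreeOfRank_twistOver (d : ℤ) : FlatMod.IsFinLocFreeOfRank 1 (Twist.twistOver n Y d) :=
  Groth.Agent.Ega2.QCohLocal.isFinLocFreeOfRank_one_iff.2 (isInvertible_twistOver n Y d)

theorem isFinLocFree_twistOver (d : ℤ) : FlatMod.IsFinLocFree (Twist.twistOver n Y d) :=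
  isFinLocFree_of_rank (isFinLocFreeOfRank_twistOver n Y d)

theorem isLine_tcl (hKP : IsModel (PY n Y) KP PP φP) (d : ℤ) : PP.IsLine (tcl n Y φP d) :=
  isLine_cl hKP (isFinLocFreeOfRank_twistOver n Y d)

/-- The class of `F(d)`. -/
theorem cl_twF (hKP : IsModel (PY n Y) KP PP φP) (d : ℤ) {F : (PY n Y).Modules}
    (hF : FlatMod.IsFinLocFree F) : φP (cl (PY n Y) (twF n Y d F)) = tcl n Y φP d * φP (cl (PY n Y) F) :=
  (hKP.map_mul _ _ (isFinLocFree_twistOver n Y d) hF).symm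

theorem tcl_zero (hKP : IsModel (PY n Y) KP PP φP) : tcl n Y φP 0 = 1 := by
  obtain ⟨e⟩ := nonempty_twistOver_zero n Y
  rw [tcl, cl_iso e (isFinLocFree_twistOver n Y 0), hKP.map_one]

theorem tcl_add (hKP : IsModel (PY n Y) KP PP φP) (a b : ℤ) :
    tcl n Y φP (a + b) = tcl n Y φP a * tcl n Y φP b := by
  obtain ⟨e⟩ := nonempty_twistOver_mul n Y a b
  rw [tcl, ← cl_iso e (Groth.Agent.Sga67.LocBasis.isFinLocFree_tensorMod (isFinLocFree_twistOver n Y a)
    (isFinLocFree_twistOver n Y b))]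
  exact (hKP.map_mul _ _ (isFinLocFree_twistOver n Y a) (isFinLocFree_twistOver n Y b)).symm

theorem tcl_natCast (hKP : IsModel (PY n Y) KP PP φP) (i : ℕ) : tcl n Y φP (i : ℤ) = tcl n Y φP 1 ^ i := by
  induction i with
  | zero => rw [pow_zero]; exact tcl_zero n Y hKP
  | succ i ih => rw [Nat.cast_succ, tcl_add n Y hKP, ih, pow_succ]

theorem tcl_neg_natCast (hKP : IsModel (PY n Y) KP PP φP) (i : ℕ) :
    tcl n Y φP (-(i : ℤ)) = tcl n Y φP (-1) ^ i := by
  induction i with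
  | zero => rw [pow_zero]; exact tcl_zero n Y hKP
  | succ i ih =>
    rw [pow_succ, ← ih, ← tcl_add n Y hKP]
    congr 1
    push_cast
    ring

theorem tcl_mul_neg (hKP : IsModel (PY n Y) KP PP φP) : tcl n Y φP 1 * tcl n Y φP (-1) = 1 := by
  rw [← tcl_add n Y hKP, ← tcl_zero n Y hKP]
  rfl

section Rel

variable {KY : Type w} [CommRing KY] [LambdaOps KY] {PosY : PosStructure KY} {φY : SGA6.Kvb Y →+ KY}
  {q : KY →+ KP}

theorem cl_freeMod (hKY : IsModel Y KY PosY φY) (N : ℕ) : φY (cl Y (FlatMod.freeMod Y N)) = N := by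
  have h := Groth.Agent.Sga67.PushTwist.c_freeMod Y N
  refine (congrArg φY h).trans ?_
  rw [map_nsmul]
  have h1 : φY (Groth.Agent.Sga67.KvbRing.c (Coh.structureModule Y)) = 1 := hKY.map_one
  rw [h1, nsmul_one]

theorem isFinLocFreeOfRank_freeMod (N : ℕ) : FlatMod.IsFinLocFreeOfRank N (FlatMod.freeMod Y N) := by
  intro x
  exact ⟨⊤, trivial, ⟨(Scheme.Modules.restrictFunctorIsoPullback (⊤ : Y.Opens).ι).app _ ≪≫
    Groth.Agent.PerfB.FlatPull.pullbackFreeMod _ N⟩⟩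

/-- `(l - 1)^(n+1) = 0` for `l = [O(1)]`. -/
theorem sub_one_pow (hKP : IsModel (PY n Y) KP PP φP) (hKY : IsModel Y KY PosY φY)
    (hq : IsPull (pr n Y) φY φP q) : (tcl n Y φP 1 - 1) ^ (n + 1) = 0 := by
  have hB := Groth.Agent.Krr.H484.PnFree.isProjBundle_over n Y
  have h := Groth.Agent.Krr.H487.PullExt.taut_relation hKP hKY hq (r := n)
    (isFinLocFreeOfRank_freeMod Y (n + 1)) (isFinLocFreeOfRank_twistOver n Y 1) _ hB.epi
  rw [cl_freeMod Y hKY] at h
  rw [← Groth.Agent.Krr.H446.PushFilt.sum_lam_natCast PosY (pullRingHom hKP hKY hq)]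
  exact h

theorem one_sub_pow (hKP : IsModel (PY n Y) KP PP φP) (hKY : IsModel Y KY PosY φY)
    (hq : IsPull (pr n Y) φY φP q) : (1 - tcl n Y φP (-1)) ^ (n + 1) = 0 := by
  have h1 : 1 - tcl n Y φP (-1) = (tcl n Y φP 1 - 1) * tcl n Y φP (-1) := by
    rw [sub_mul, tcl_mul_neg n Y hKP, one_mul]
  rw [h1, mul_pow, sub_one_pow n Y hKP hKY hq, zero_mul]

end Rel

end Groth.Agent.Krr.H446.PnBasic
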