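import Groth.Agent.Krr.H446.PushFilt
import Groth.Agent.Krr.H483.LamTwist
import Groth.Agent.Krr.H487.PullExt

/-!
# The push-forward along `P^n_Y ⟶ Y` and the γ-filtrations, from the presentation of `K(P^n_Y)`

`push_mem_of_presentation`: models `KP`, `KY` and `q = p^K`, `g : KP →+ KY`, `u` a line element of `KP` with
`(1-u)^(n+1) = 0`, every `x` of the form `Σ_{i ≤ n} q(y_i) (1-u)^i` and `g (q y * (1-u)^i) = y` for `i ≤ n`.
Then `g (F^k KP) ⊆ F^(k-n) KY`.
-/

set_option autoImplicit false

universe v w v' u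

open LambdaRing Finset AlgebraicGeometry

namespace Groth.Agent.Krr.H446.PushPr

section Algebra

variable {K : Type v} [CommRing K] {Q : Type w} [CommRing Q] {g : K →+* Q} {h : Q} {n : ℕ}

/-- a polynomial of degree `≤ n` with zero value at `h` is zero -/
theorem eq_zero_of_eval (hh : h ^ (n + 1) = 0) (p : Q →+ K)
    (hp : ∀ i ≤ n, ∀ y : K, p (g y * h ^ i) = y) (d : Polynomial K) (hd : d.natDegree ≤ n)
    (h0 : d.eval₂ g h = 0) : d = 0 := by
  have hbig : ∀ i, n < i → h ^ i = 0 := by
    intro i hi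
    obtain ⟨c, rfl⟩ := Nat.exists_eq_add_of_lt hi
    rw [show n + c + 1 = (n + 1) + c by ring, pow_add, hh, zero_mul]
  have key : ∀ j, j ≤ n → d.coeff j = 0 := by
    intro j
    induction j using Nat.strong_induction_on with
    | _ j ih =>
      intro hj
      have h1 : d.eval₂ g h * h ^ (n - j) = g (d.coeff j) * h ^ n := by
        rw [Polynomial.eval₂_eq_sum_range' g (Nat.lt_succ_of_le hd), Finset.sum_mul,
          Finset.sum_eq_single j]
        · rw [mul_assoc, ← pow_add]
          congr 2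
          omega
        · intro i hi hij
          have hi' := Finset.mem_range.1 hi
          rcases Nat.lt_or_ge i j with hlt | hge
          · rw [ih i hlt (by omega), map_zero, zero_mul, zero_mul]
          · rw [mul_assoc, ← pow_add, hbig _ (by omega), mul_zero]
        · intro hnot
          exact absurd (Finset.mem_range.2 (by omega)) hnot
      rw [h0, zero_mul] at h1
      have h2 := hp n le_rfl (d.coeff j)
      rw [← h1, map_zero] at h2
      exact h2.symm
  ext j
  rw [Polynomial.coeff_zero]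
  rcases Nat.lt_or_ge n j with hj | hj
  · exact Polynomial.coeff_eq_zero_of_natDegree_lt (by omega)
  · exact key j hj

theorem natDegree_comp_le (c : Polynomial K) (hc : c.natDegree ≤ n) :
    (c.comp (1 - Polynomial.X)).natDegree ≤ n := by
  refine Polynomial.natDegree_comp_le.trans ?_
  have h1 : (1 - Polynomial.X : Polynomial K).natDegree ≤ 1 :=
    (Polynomial.natDegree_sub_le _ _).trans (by
      rw [Polynomial.natDegree_one]
      simpa using Polynomial.natDegree_X_le)
  calc c.natDegree * (1 - Polynomial.X : Polynomial K).natDegree ≤ n * 1 := Nat.mul_le_mul hc h1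
    _ = n := mul_one n

theorem comp_comp (c : Polynomial K) : (c.comp (1 - Polynomial.X)).comp (1 - Polynomial.X) = c := by
  rw [Polynomial.comp_assoc]
  simp

theorem eval₂_comp_one_sub (c : Polynomial K) (u : Q) :
    (c.comp (1 - Polynomial.X)).eval₂ g (1 - u) = c.eval₂ g u := by
  rw [Polynomial.eval₂_comp]
  simp

/-- The powers `1, u, …, u^n` are a basis. -/
theorem bijective (u : Q) (hh : (1 - u) ^ (n + 1) = 0) (p : Q →+ K)
    (hp : ∀ i ≤ n, ∀ y : K, p (g y * (1 - u) ^ i) = y)
    (hs : ∀ x : Q, ∃ y : Fin (n + 1) → K, x = ∑ i : Fin (n + 1), g (y i) * (1 - u) ^ (i : ℕ)) :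
    Function.Bijective (fun a : Fin (n + 1) → K => ∑ i : Fin (n + 1), g (a i) * u ^ (i : ℕ)) := by
  have hpoly : ∀ (a : Fin (n + 1) → K) (v : Q), ∃ c : Polynomial K, c.natDegree ≤ n ∧
      (∀ i : Fin (n + 1), c.coeff i = a i) ∧
      ∀ v : Q, c.eval₂ g v = ∑ i : Fin (n + 1), g (a i) * v ^ (i : ℕ) := by
    intro a v
    refine ⟨∑ i : Fin (n + 1), Polynomial.C (a i) * Polynomial.X ^ (i : ℕ), ?_, ?_, ?_⟩
    · refine Polynomial.natDegree_sum_le_of_forall_le _ _ fun i _ => ?_
      exact (Polynomial.natDegree_C_mul_X_pow_le _ _).trans (Nat.le_of_lt_succ i.2)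
    · intro i
      simp only [Polynomial.finsetSum_coeff, Polynomial.coeff_C_mul_X_pow]
      rw [Finset.sum_eq_single i]
      · simp
      · intro j _ hj
        rw [if_neg]
        intro h
        exact hj (Fin.ext h.symm)
      · intro h
        exact absurd (Finset.mem_univ i) h
    · intro v
      rw [Polynomial.eval₂_finsetSum]
      refine Finset.sum_congr rfl fun i _ => ?_
      rw [Polynomial.eval₂_mul, Polynomial.eval₂_C, Polynomial.eval₂_X_pow]
  constructor
  · intro a b hab
    obtain ⟨c, hc, hca, hce⟩ := hpoly (a - b) u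
    have h0 : c.eval₂ g u = 0 := by
      rw [hce u]
      have h1 : ∀ i : Fin (n + 1), g ((a - b) i) * u ^ (i : ℕ) =
          g (a i) * u ^ (i : ℕ) - g (b i) * u ^ (i : ℕ) := by
        intro i
        rw [Pi.sub_apply, map_sub, sub_mul]
      rw [Finset.sum_congr rfl fun i _ => h1 i, Finset.sum_sub_distrib]
      exact sub_eq_zero.2 hab
    have h1 := eq_zero_of_eval hh p hp (c.comp (1 - Polynomial.X)) (natDegree_comp_le c hc)
      (by rw [eval₂_comp_one_sub]; exact h0)
    have h2 : c = 0 := by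
      rw [← comp_comp c, h1, Polynomial.zero_comp]
    funext i
    have h3 := hca i
    rw [h2, Polynomial.coeff_zero, Pi.sub_apply] at h3
    exact (sub_eq_zero.1 h3.symm)
  · intro x
    obtain ⟨y, hy⟩ := hs x
    obtain ⟨d, hd, -, hde⟩ := hpoly y u
    refine ⟨fun i => (d.comp (1 - Polynomial.X)).coeff i, ?_⟩
    have h1 : (d.comp (1 - Polynomial.X)).eval₂ g u = x := by
      have h2 := eval₂_comp_one_sub (g := g) d (1 - u)
      rw [sub_sub_cancel] at h2
      rw [h2, hde, hy]
    rw [← h1, Polynomial.eval₂_eq_sum_range' g (Nat.lt_succ_of_le (natDegree_comp_le d hd)),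
      Finset.sum_range]

/-- `p (g y u^i)` is an integral multiple of `y` -/
theorem exists_push_pow (u : Q) (hh : (1 - u) ^ (n + 1) = 0) (p : Q →+ K)
    (hp : ∀ i ≤ n, ∀ y : K, p (g y * (1 - u) ^ i) = y) (i : ℕ) :
    ∃ m : ℤ, ∀ y : K, p (g y * u ^ i) = m • y := by
  have hp' : ∀ j : ℕ, ∃ m : ℤ, ∀ y : K, p (g y * (1 - u) ^ j) = m • y := by
    intro j
    rcases Nat.lt_or_ge n j with hj | hj
    · refine ⟨0, fun y => ?_⟩
      obtain ⟨c, rfl⟩ := Nat.exists_eq_add_of_lt hj
      rw [show n + c + 1 = (n + 1) + c by ring, pow_add, hh, zero_mul, mul_zero, map_zero, zero_smul]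
    · exact ⟨1, fun y => by rw [hp j hj, one_smul]⟩
  choose m hm using hp'
  refine ⟨∑ j ∈ range (i + 1), m j * ((-1) ^ j * (i.choose j : ℤ)), fun y => ?_⟩
  have h1 : g y * u ^ i = ∑ j ∈ range (i + 1),
      ((-1) ^ j * (i.choose j : ℤ)) • (g y * (1 - u) ^ j) := by
    have h2 : u = -(1 - u) + 1 := by ring
    conv_lhs => rw [h2, add_pow, Finset.mul_sum]
    refine Finset.sum_congr rfl fun j _ => ?_
    rw [zsmul_eq_mul, neg_pow, one_pow]
    push_cast
    ring
  rw [h1, map_sum, Finset.sum_smul]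
  refine Finset.sum_congr rfl fun j _ => ?_
  rw [map_zsmul, hm, smul_smul, mul_comm]

end Algebra

open KRR Groth.Agent.Krr.H482.PullLambda Groth.Agent.Krr.H483.LamTwist

variable {Y P : Scheme.{u}} {KP : Type v} [CommRing KP] [LambdaOps KP] {PP : PosStructure KP}
  {φP : SGA6.Kvb P →+ KP} {KY : Type v'} [CommRing KY] [LambdaOps KY] {PY : PosStructure KY}
  {φY : SGA6.Kvb Y →+ KY} {pr : P ⟶ Y} {q : KY →+ KP}

/-- The push-forward along `P^n_Y ⟶ Y` and the γ-filtrations, from the presentation of `K(P^n_Y)`. -/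
theorem push_mem_of_presentation (hKP : IsModel P KP PP φP) (hKY : IsModel Y KY PY φY)
    (hq : IsPull pr φY φP q) {n : ℕ} {u : KP} (hu : PP.IsLine u) (hh : (1 - u) ^ (n + 1) = 0)
    (hs : ∀ x : KP, ∃ y : Fin (n + 1) → KY, x = ∑ i : Fin (n + 1), q (y i) * (1 - u) ^ (i : ℕ))
    (p : KP →+ KY) (hp : ∀ i ≤ n, ∀ y : KY, p (q y * (1 - u) ^ i) = y) (k : ℕ) {x : KP}
    (hx : x ∈ gammaFiltration PP k) : p x ∈ gammaFiltration PY (k - n) := by
  let g : KY →+* KP := pullRingHom hKP hKY hq
  have hg : ∀ y, g y = q y := fun y => rfl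
  have hp' : ∀ i ≤ n, ∀ y : KY, p (g y * (1 - u) ^ i) = y := hp
  have hu1 : (u - 1) ^ (n + 1) = 0 := by
    rw [← neg_sub, neg_pow, hh, mul_zero]
  have H : Groth.Agent.Krr.H483.GammaPB.Hyp PY PP g u n ((n + 1 : ℕ) : KY) :=
    { lam_map := fun i x => (Groth.Agent.Krr.H487.PullExt.pull_lam hKP hKY hq i x)
      aug_map := fun x => pull_aug hKP hKY hq x
      pos_map := fun x hx => pull_pos hKP hKY hq hx
      line := hu
      lam_mul := fun i m x hx => lam_mul_line_pow hKP hu (g x) i m
      pos := by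
        exact PY.natCast_mem (n + 1) (Nat.succ_pos n)
      aug := by
        rw [map_natCast]
        push_cast
        rfl
      rel := by
        rw [Groth.Agent.Krr.H446.PushFilt.sum_lam_natCast PY g u n]
        exact hu1
      bij := bijective u hh p hp' hs }
  exact Groth.Agent.Krr.H446.PushFilt.push_mem H hu1 p (exists_push_pow u hh p hp') k hx

end Groth.Agent.Krr.H446.PushPr
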