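import Groth.Agent.Krr.H446.PnBasic
import Groth.Agent.Krr.H446.PushPr
import Groth.Agent.Krr.H446.PnAlg
import Groth.Agent.Krr.H499.RegTw
import Groth.Agent.Krr.H499.Gen
import Groth.Agent.S3197

/-!
# The presentation of `K(P^n_Y)` on models

For models `KP` of `K(P^n_Y)`, `KY` of `K(Y)`, `q = p^K`, `g = p_K`, `l = [O(1)]`, `u = [O(-1)] = l⁻¹`:
* `bijective_pow`: `(a_i)_{i ≤ n} ↦ Σ q(a_i) l^i` is bijective;
* `push_pow`: `g (q y * l^i) = C(i+n, n) • y` for `i ≥ 0`;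
* `exists_sum`: every `x` is `Σ_{i ≤ n} q(y_i) (1-u)^i`;
* `push_one_sub_pow`: `g (q y * (1-u)^i) = y` for `i ≤ n`.
-/

set_option autoImplicit false

universe v w u

open CategoryTheory CategoryTheory.Limits AlgebraicGeometry LambdaRing

namespace Groth.Agent.Krr.H446.PnPres

open KRR Groth.Agent.Krr.H482.PullLambda Groth.Agent.Krr.H483.LamTwist Groth.Agent.Sga67.TwistOver
open Groth.Agent.Krr.H446.PnBasic Groth.Agent.Sga67

variable (n : ℕ) (Y : Scheme.{u}) {KP : Type v} [CommRing KP] [LambdaOps KP] {PP : PosStructure KP}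
  {φP : SGA6.Kvb (PY n Y) →+ KP}
  {KY : Type w} [CommRing KY] [LambdaOps KY] {PosY : PosStructure KY} {φY : SGA6.Kvb Y →+ KY}
  {q : KY →+ KP}

/-- `φP [O(i) ⊗ p^* E] = l^i * q [E]`. -/
theorem cl_twF_pull (hKP : IsModel (PY n Y) KP PP φP) (hq : IsPull (pr n Y) φY φP q)
    (i : ℕ) {E : Y.Modules} (hE : FlatMod.IsFinLocFree E) :
    φP (cl (PY n Y) (twF n Y (i : ℤ) ((Scheme.Modules.pullback (pr n Y)).obj E))) =
      q (φY (cl Y E)) * tcl n Y φP 1 ^ i := by
  rw [cl_twF n Y hKP _ (isFinLocFree_pullback _ hE), tcl_natCast n Y hKP, hq E hE, mul_comm]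

/-- `(a_i)_{i ≤ n} ↦ Σ q(a_i) l^i` is bijective. -/
theorem bijective_pow [CompactSpace Y] (hKP : IsModel (PY n Y) KP PP φP) (hKY : IsModel Y KY PosY φY)
    (hq : IsPull (pr n Y) φY φP q) :
    Function.Bijective (fun a : Fin (n + 1) → KY => ∑ i : Fin (n + 1), q (a i) * tcl n Y φP 1 ^ (i : ℕ)) := by
  have hflat := Groth.Agent.Krr.H499.Gen.flat_pr n Y
  have h1 : PreservesFiniteLimits (Scheme.Modules.pullback (CohB1.ProjSpaceOver.toBase n Y)) :=
    PerfB.FlatPull.preservesFiniteLimits_pullback (KRR.pr n Y)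
  have h2 : ∀ i : ℕ, PreservesFiniteLimits ((DCoh.tensorBi (X := CohB1.ProjSpaceOver n Y)).obj
    (Twist.twistOver n Y (i : ℤ))) := fun i => preservesFiniteLimits_tw n Y i
  have h3 : ∀ i : ℕ, PreservesFiniteColimits ((DCoh.tensorBi (X := CohB1.ProjSpaceOver n Y)).obj
    (Twist.twistOver n Y (i : ℤ))) := fun i => preservesFiniteColimits_tw n Y i
  have hf : ∀ M : Y.Modules, FlatMod.IsFinLocFree M →
      FlatMod.IsFinLocFree ((Scheme.Modules.pullback (CohB1.ProjSpaceOver.toBase n Y)).obj M) :=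
    fun M hM => PerfB.FlatPull.isFinLocFree_pullback _ hM
  have ht : ∀ (i : ℕ) (M : (CohB1.ProjSpaceOver n Y).Modules), FlatMod.IsFinLocFree M →
      FlatMod.IsFinLocFree (((DCoh.tensorBi (X := CohB1.ProjSpaceOver n Y)).obj
        (Twist.twistOver n Y (i : ℤ))).obj M) := fun i M hM => isFinLocFree_tw n Y i M hM
  have hbij := S3197.result Y n hf ht
  let T : ℕ → SGA6.Kvb Y →+ SGA6.Kvb (PY n Y) := fun i =>
    (SGA6.mapSub ((DCoh.tensorBi (X := CohB1.ProjSpaceOver n Y)).obj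
    (Twist.twistOver n Y (i : ℤ)))
      (fun M : (CohB1.ProjSpaceOver n Y).Modules => FlatMod.IsFinLocFree M)
      (fun M : (CohB1.ProjSpaceOver n Y).Modules => FlatMod.IsFinLocFree M) (ht i)).comp
    (SGA6.mapSub (Scheme.Modules.pullback (CohB1.ProjSpaceOver.toBase n Y))
      (fun M : (Y).Modules => FlatMod.IsFinLocFree M)
      (fun M : (CohB1.ProjSpaceOver n Y).Modules => FlatMod.IsFinLocFree M) hf)
  have hT : ∀ (i : ℕ) (E : Y.Modules), FlatMod.IsFinLocFree E →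
      T i (KZero.clSub (fun M : Y.Modules => FlatMod.IsFinLocFree M) E) =
      KRR.cl (KRR.PY n Y) (KRR.twF n Y (i : ℤ) ((Scheme.Modules.pullback (KRR.pr n Y)).obj E)) := by
    intro i E hE
    rw [Groth.Agent.Krr.H499.Gen.clSub_eq_mk' hE]
    simp only [T, AddMonoidHom.comp_apply, K0Loc.mapSub_mk]
    exact (Groth.Agent.Krr.H499.Gen.clSub_eq_mk'
      (P := fun M : (CohB1.ProjSpaceOver n Y).Modules => FlatMod.IsFinLocFree M)
      (ht i _ (hf E hE))).symm
  have key : ∀ (i : ℕ) (x : SGA6.Kvb Y), φP (T i x) = q (φY x) * tcl n Y φP 1 ^ i := by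
    intro i x
    have h : φP.comp (T i) = (AddMonoidHom.mulRight (tcl n Y φP 1 ^ i)).comp (q.comp φY) := by
      refine K0Basic.hom_ext_sub fun E hE => ?_
      refine (congrArg φP (hT i E hE)).trans ?_
      exact cl_twF_pull n Y hKP hq i hE
    exact DFunLike.congr_fun h x
  have hfun : (fun a : Fin (n + 1) → KY => ∑ i : Fin (n + 1), q (a i) * tcl n Y φP 1 ^ (i : ℕ)) ∘
      (fun x : Fin (n + 1) → SGA6.Kvb Y => fun i => φY (x i)) =
      φP ∘ (fun x : Fin (n + 1) → SGA6.Kvb Y => ∑ i : Fin (n + 1), T i (x i)) := by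
    funext x
    simp only [Function.comp_apply, map_sum]
    exact Finset.sum_congr rfl fun i _ => (key i (x i)).symm
  have hφY : Function.Bijective (fun x : Fin (n + 1) → SGA6.Kvb Y => fun i => φY (x i)) :=
    Function.Bijective.piMap fun _ => hKY.bijective
  have hcomp : Function.Bijective (φP ∘ (fun x : Fin (n + 1) → SGA6.Kvb Y =>
      ∑ i : Fin (n + 1), T i (x i))) := hKP.bijective.comp hbij
  rw [← hfun] at hcomp
  exact (Function.Bijective.of_comp_iff _ hφY).1 hcomp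

/-- `g (q y * l^i) = C(i+n, n) • y`. -/
theorem push_pow (hKP : IsModel (PY n Y) KP PP φP) (hKY : IsModel Y KY PosY φY)
    (hq : IsPull (pr n Y) φY φP q) {g : KP →+ KY} (hg : IsPushPr n Y φP φY g) (i : ℕ) (y : KY) :
    g (q y * tcl n Y φP 1 ^ i) = (i + n).choose n • y := by
  obtain ⟨x, rfl⟩ := hKY.bijective.2 y
  have h : (g.comp (AddMonoidHom.mulRight (tcl n Y φP 1 ^ i))).comp (q.comp φY) =
      ((i + n).choose n) • φY := by
    refine K0Basic.hom_ext_sub fun E hE => ?_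
    have hf : FlatMod.IsFinLocFree ((Scheme.Modules.pullback (KRR.pr n Y)).obj E) :=
      PerfB.FlatPull.isFinLocFree_pullback _ hE
    have hF : FlatMod.IsFinLocFree
        (KRR.twF n Y (i : ℤ) ((Scheme.Modules.pullback (KRR.pr n Y)).obj E)) :=
      Sga67.TwistOver.isFinLocFree_tw n Y i _ hf
    have h1 : g (φP (KRR.cl (KRR.PY n Y)
        (KRR.twF n Y (i : ℤ) ((Scheme.Modules.pullback (KRR.pr n Y)).obj E)))) =
        (i + n).choose n • φY (KRR.cl Y E) := by
      rw [hg _ hF (Krr.H499.RegTw.isRegSheaf_twF_pull n E hE i (by positivity)), ← map_nsmul]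
      exact congrArg φY (Sga67.PushTwist.clSub_push_tw_pull n Y i hE)
    rw [cl_twF_pull n Y hKP hq i hE] at h1
    exact h1
  exact DFunLike.congr_fun h x

/-- `g (q y * (1-u)^k) = y` for `k ≤ n`, `u = [O(-1)]`. -/
theorem push_one_sub_pow (hKP : IsModel (PY n Y) KP PP φP) (hKY : IsModel Y KY PosY φY)
    (hq : IsPull (pr n Y) φY φP q) {g : KP →+ KY} (hg : IsPushPr n Y φP φY g) (k : ℕ) (hk : k ≤ n)
    (y : KY) : g (q y * (1 - tcl n Y φP (-1)) ^ k) = y :=
  Groth.Agent.Krr.H446.PnAlg.push_one_sub_pow (g := pullRingHom hKP hKY hq) (tcl_mul_neg n Y hKP)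
    (one_sub_pow n Y hKP hKY hq) g (fun i y => push_pow n Y hKP hKY hq hg i y) k hk y

/-- Every `x` is `Σ_{i ≤ n} q(y_i) (1-u)^i`, `u = [O(-1)]`. -/
theorem exists_sum [CompactSpace Y] (hKP : IsModel (PY n Y) KP PP φP) (hKY : IsModel Y KY PosY φY)
    (hq : IsPull (pr n Y) φY φP q) (x : KP) :
    ∃ y : Fin (n + 1) → KY, x = ∑ i : Fin (n + 1), q (y i) * (1 - tcl n Y φP (-1)) ^ (i : ℕ) :=
  Groth.Agent.Krr.H446.PnAlg.exists_sum_one_sub (g := pullRingHom hKP hKY hq) (tcl_mul_neg n Y hKP)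
    (bijective_pow n Y hKP hKY hq).2 x

/-- `(y_i)_{i ≤ n} ↦ Σ q(y_i) u^i` is bijective, `u = [O(-1)]`. -/
theorem bijective_neg_pow [CompactSpace Y] (hKP : IsModel (PY n Y) KP PP φP) (hKY : IsModel Y KY PosY φY)
    (hq : IsPull (pr n Y) φY φP q) {g : KP →+ KY} (hg : IsPushPr n Y φP φY g) :
    Function.Bijective (fun a : Fin (n + 1) → KY =>
      ∑ i : Fin (n + 1), q (a i) * tcl n Y φP (-1) ^ (i : ℕ)) :=
  Groth.Agent.Krr.H446.PushPr.bijective (g := pullRingHom hKP hKY hq) (tcl n Y φP (-1))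
    (one_sub_pow n Y hKP hKY hq) g (fun k hk y => push_one_sub_pow n Y hKP hKY hq hg k hk y)
    (fun x => exists_sum n Y hKP hKY hq x)

/-- **The integral behaviour of `p_K` with respect to the γ-filtrations.** -/
theorem push_mem [CompactSpace Y] (hKP : IsModel (PY n Y) KP PP φP) (hKY : IsModel Y KY PosY φY)
    {g : KP →+ KY} (hg : IsPushPr n Y φP φY g) (k : ℕ) (x : KP) (hx : x ∈ gammaFiltration PP k) :
    g x ∈ gammaFiltration PosY (k - n) := by
  obtain ⟨q, hq⟩ := exists_isPull (pr n Y) hKY.bijective φP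
  exact Groth.Agent.Krr.H446.PushPr.push_mem_of_presentation hKP hKY hq (isLine_tcl n Y hKP (-1))
    (one_sub_pow n Y hKP hKY hq) (fun x => exists_sum n Y hKP hKY hq x) g
    (fun i hi y => push_one_sub_pow n Y hKP hKY hq hg i hi y) k hx

end Groth.Agent.Krr.H446.PnPres
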