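import Groth.Agent.Krr.H446.TensRes
import Groth.Agent.Sga67.KvbRing
import Groth.Agent.Dcoh.ClosedProj
import Groth.Agent.PerfB.FlatPull

/-!
# The projection formula for the push-forward on K along a closed immersion

`pushCl_mul_pull_of_hasLFRes`: if `f` is a closed immersion and `f_* F` has a finite resolution by finite
locally free modules for each finite locally free `F`, then `f_K (x · f^K y) = f_K x · y`.
-/

set_option autoImplicit false

universe v w u

open CategoryTheory CategoryTheory.Limits AlgebraicGeometry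

namespace Groth.Agent.Krr.H446.ProjFormula

open Groth.Agent.Krr.H446.TensRes

variable {X Y : Scheme.{u}}

theorem cl_iso {M N : X.Modules} (e : M ≅ N) (h : FlatMod.IsFinLocFree M) :
    KRR.cl X M = KRR.cl X N :=
  Groth.Agent.Sga67.KvbRing.c_iso e h

/-- `f_* F ⊗ E ≅ f_* (F ⊗ f^* E)`, with the factors on the left commuted. -/
noncomputable def projIso (f : X ⟶ Y) [IsClosedImmersion f] (F : X.Modules) (E : Y.Modules) :
    ((DCoh.tensorBi (X := Y)).obj E).obj ((Scheme.Modules.pushforward f).obj F) ≅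
      (Scheme.Modules.pushforward f).obj
        (((DCoh.tensorBi (X := X)).obj F).obj ((Scheme.Modules.pullback f).obj E)) :=
  Groth.Agent.Sga67.TensorOps.tensorComm E ((Scheme.Modules.pushforward f).obj F) ≪≫
    @asIso _ _ _ _ (Groth.Agent.Dcoh.ClosedProj.proj f F E)
      (Groth.Agent.Dcoh.ClosedProj.isIso_proj f F E)

/-- The projection formula on classes of bundles. -/
theorem pushCl_cl_mul_pull_cl (f : X ⟶ Y) [IsClosedImmersion f]
    {KX : Type v} [CommRing KX] [LambdaRing.LambdaOps KX] {PX : LambdaRing.PosStructure KX}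
    {φX : SGA6.Kvb X →+ KX} (hKX : KRR.IsModel X KX PX φX)
    {KY : Type w} [CommRing KY] [LambdaRing.LambdaOps KY] {PY : LambdaRing.PosStructure KY}
    {φY : SGA6.Kvb Y →+ KY} (hKY : KRR.IsModel Y KY PY φY)
    {g : KY →+ KX} (hg : KRR.IsPull f φY φX g) {h : KX →+ KY} (hh : KRR.IsPushCl f φX φY h)
    {F : X.Modules} (hF : FlatMod.IsFinLocFree F)
    (hres : KRR.HasLFRes ((Scheme.Modules.pushforward f).obj F))
    {E : Y.Modules} (hE : FlatMod.IsFinLocFree E) :
    h (φX (KRR.cl X F) * g (φY (KRR.cl Y E))) = h (φX (KRR.cl X F)) * φY (KRR.cl Y E) := by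
  obtain ⟨n, L, π, hL⟩ := hres
  have hfE := Groth.Agent.PerfB.FlatPull.isFinLocFree_pullback f hE
  have hFE : FlatMod.IsFinLocFree
      (((DCoh.tensorBi (X := X)).obj F).obj ((Scheme.Modules.pullback f).obj E)) :=
    Groth.Agent.Sga67.LocBasis.isFinLocFree_tensorMod hF hfE
  have h1 := isLFRes_iso (projIso f F E) (isLFRes_tensor hE hL)
  rw [hg E hE, hKX.map_mul F _ hF hfE, hh _ hFE n _ _ h1, hh F hF n L π hL, Finset.sum_mul]
  refine Finset.sum_congr rfl fun k _ => ?_
  rw [smul_mul_assoc, mul_comm (φY (KRR.cl Y (L.X k))), hKY.map_mul E (L.X k) hE (hL.finLocFree k)]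
  rfl

/-- Induction principle for a model of `K(X)`. -/
theorem model_induction {KX : Type v} [CommRing KX] [LambdaRing.LambdaOps KX]
    {PX : LambdaRing.PosStructure KX} {φX : SGA6.Kvb X →+ KX} (hKX : KRR.IsModel X KX PX φX)
    {C : KX → Prop} (h0 : C 0)
    (hc : ∀ E : X.Modules, FlatMod.IsFinLocFree E → C (φX (KRR.cl X E)))
    (hneg : ∀ x, C x → C (-x)) (hadd : ∀ x y, C x → C y → C (x + y)) (x : KX) : C x := by
  obtain ⟨x, rfl⟩ := hKX.bijective.2 x
  refine Groth.Agent.Sga67.KvbRing.K_induction (C := fun x => C (φX x)) ?_ hc ?_ ?_ x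
  · simpa using h0
  · intro x hx; simpa using hneg _ hx
  · intro x y hx hy; simpa using hadd _ _ hx hy

/-- The projection formula on `K`. -/
theorem pushCl_mul_pull_of_hasLFRes (f : X ⟶ Y) [IsClosedImmersion f]
    (hres : ∀ F : X.Modules, FlatMod.IsFinLocFree F →
      KRR.HasLFRes ((Scheme.Modules.pushforward f).obj F))
    {KX : Type v} [CommRing KX] [LambdaRing.LambdaOps KX] {PX : LambdaRing.PosStructure KX}
    {φX : SGA6.Kvb X →+ KX} (hKX : KRR.IsModel X KX PX φX)
    {KY : Type w} [CommRing KY] [LambdaRing.LambdaOps KY] {PY : LambdaRing.PosStructure KY}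
    {φY : SGA6.Kvb Y →+ KY} (hKY : KRR.IsModel Y KY PY φY)
    {g : KY →+ KX} (hg : KRR.IsPull f φY φX g) {h : KX →+ KY} (hh : KRR.IsPushCl f φX φY h)
    (x : KX) (y : KY) : h (x * g y) = h x * y := by
  induction x using model_induction hKX with
  | h0 => simp
  | hneg x hx => simp [hx]
  | hadd x x' hx hx' => simp [add_mul, hx, hx']
  | hc F hF =>
    induction y using model_induction hKY with
    | h0 => simp
    | hneg y hy => simp [hy]
    | hadd y y' hy hy' => simp [mul_add, hy, hy']
    | hc E hE => exact pushCl_cl_mul_pull_cl f hKX hKY hg hh hF (hres F hF) hE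

end Groth.Agent.Krr.H446.ProjFormula
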