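import Groth.Prelude.Def_KRR
import Groth.Agent.Sga67.TensorOps
import Mathlib.Algebra.Homology.ShortComplex.ExactFunctor
import Mathlib.Algebra.Homology.Additive
import Mathlib.Algebra.Homology.QuasiIso

/-!
# Images of finite locally free resolutions under exact functors

* `preservesHomology_tensor`: `E ⊗ -` is exact for `E` finite locally free;
* `isLFRes_map`: an additive exact functor which preserves finite locally free modules carries
  `KRR.IsLFRes` resolutions to such;
* `isLFRes_iso`: change of the resolved module by an isomorphism;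
* `isLFRes_tensor`: `E ⊗ L → E ⊗ M` is a resolution if `L → M` is one.
-/

set_option autoImplicit false

universe u

open CategoryTheory CategoryTheory.Limits AlgebraicGeometry

namespace Groth.Agent.Krr.H446.TensRes

variable {X Y : Scheme.{u}}

/-- Tensoring with a finite locally free module is exact. -/
theorem preservesHomology_tensor {E : X.Modules} (hE : FlatMod.IsFinLocFree E) :
    ((DCoh.tensorBi (X := X)).obj E).PreservesHomology :=
  ((Functor.exact_tfae ((DCoh.tensorBi (X := X)).obj E)).out 0 2).1
    fun _ hS => Groth.Agent.Sga67.TensorOps.tensor_shortExact hE hS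

/-- Image of a resolution under an exact functor preserving finite locally free modules. -/
theorem isLFRes_map (F : X.Modules ⥤ Y.Modules) [F.Additive] [F.PreservesHomology]
    (hF : ∀ M : X.Modules, FlatMod.IsFinLocFree M → FlatMod.IsFinLocFree (F.obj M))
    {M : X.Modules} {n : ℕ} {L : ChainComplex X.Modules ℕ}
    {π : L ⟶ (ChainComplex.single₀ X.Modules).obj M} (h : KRR.IsLFRes M n L π) :
    KRR.IsLFRes (F.obj M) n ((F.mapHomologicalComplex (ComplexShape.down ℕ)).obj L)
      ((F.mapHomologicalComplex (ComplexShape.down ℕ)).map π ≫
        (HomologicalComplex.singleMapHomologicalComplex F (ComplexShape.down ℕ) 0).hom.app M) where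
  finLocFree i := hF _ (h.finLocFree i)
  isZero i hi := F.map_isZero (h.isZero i hi)
  quasiIso := by
    have := h.quasiIso
    have : QuasiIso ((F.mapHomologicalComplex (ComplexShape.down ℕ)).map π) :=
      HomologicalComplex.quasiIso_map_of_preservesHomology _ _
    infer_instance

/-- Change of the resolved module by an isomorphism. -/
theorem isLFRes_iso {M M' : X.Modules} (e : M ≅ M') {n : ℕ} {L : ChainComplex X.Modules ℕ}
    {π : L ⟶ (ChainComplex.single₀ X.Modules).obj M} (h : KRR.IsLFRes M n L π) :
    KRR.IsLFRes M' n L (π ≫ (ChainComplex.single₀ X.Modules).map e.hom) where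
  finLocFree := h.finLocFree
  isZero := h.isZero
  quasiIso := by
    have := h.quasiIso
    infer_instance

theorem hasLFRes_iso {M M' : X.Modules} (e : M ≅ M') (h : KRR.HasLFRes M) : KRR.HasLFRes M' := by
  obtain ⟨n, L, π, hL⟩ := h
  exact ⟨n, L, _, isLFRes_iso e hL⟩

/-- Tensoring a resolution with a finite locally free module. -/
theorem isLFRes_tensor {E : X.Modules} (hE : FlatMod.IsFinLocFree E)
    {M : X.Modules} {n : ℕ} {L : ChainComplex X.Modules ℕ}
    {π : L ⟶ (ChainComplex.single₀ X.Modules).obj M} (h : KRR.IsLFRes M n L π) :
    KRR.IsLFRes (((DCoh.tensorBi (X := X)).obj E).obj M) n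
      ((((DCoh.tensorBi (X := X)).obj E).mapHomologicalComplex (ComplexShape.down ℕ)).obj L)
      ((((DCoh.tensorBi (X := X)).obj E).mapHomologicalComplex (ComplexShape.down ℕ)).map π ≫
        (HomologicalComplex.singleMapHomologicalComplex ((DCoh.tensorBi (X := X)).obj E)
          (ComplexShape.down ℕ) 0).hom.app M) := by
  have := preservesHomology_tensor hE
  exact isLFRes_map _ (fun _ hN => Groth.Agent.Sga67.LocBasis.isFinLocFree_tensorMod hE hN) h

end Groth.Agent.Krr.H446.TensRes
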